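import Groth.Prelude.Def_W4c4lgringredgrpLG
import Mathlib.RingTheory.Spectrum.Prime.FreeLocus
import Mathlib.Algebra.Module.Projective
import Mathlib.LinearAlgebra.Matrix.ToLin
import Mathlib.LinearAlgebra.Matrix.Determinant.Basic
import Mathlib.Algebra.MvPolynomial.Rename

set_option autoImplicit false

/-!
# LG-rings: basic consequences of the definition

* `K888.LG.exists_isUnit_eval`: the defining property for an arbitrary finite index type.
* `K888.LG.nonempty_linearEquiv_of_rankAtStalk_eq`: finite projective modules of equal ranks at the maximal ideals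
  are isomorphic over an LG-ring.
-/

namespace K888.LG

open LGRing
open scoped TensorProduct

universe u v w

variable {R : Type u} [CommRing R]

/-- The LG property for an arbitrary finite index type, in terms of values at points of `R`. -/
theorem exists_isUnit_eval (hR : IsLGRing R) {σ : Type} [Finite σ] (f : MvPolynomial σ R)
    (h : ∀ m : Ideal R, m.IsMaximal → ∃ s : σ → R, MvPolynomial.eval s f ∉ m) :
    ∃ s : σ → R, IsUnit (MvPolynomial.eval s f) := by
  obtain ⟨n, ⟨e⟩⟩ := Finite.exists_equiv_fin σ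
  obtain ⟨s, hs⟩ := hR n (MvPolynomial.rename e f) (fun m hm => by
    obtain ⟨s, hs⟩ := h m hm
    refine ⟨fun i => Ideal.Quotient.mk m (s (e.symm i)), ?_⟩
    have hfield : IsField (R ⧸ m) := (Ideal.Quotient.maximal_ideal_iff_isField_quotient m).mp hm
    let := hfield.toField
    have e1 : MvPolynomial.aeval (fun i => Ideal.Quotient.mk m (s (e.symm i))) (MvPolynomial.rename e f) =
        Ideal.Quotient.mk m (MvPolynomial.eval s f) := by
      rw [MvPolynomial.aeval_rename]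
      have : ((fun i => Ideal.Quotient.mk m (s (e.symm i))) ∘ e) = fun i => Ideal.Quotient.mk m (s i) := by
        funext i; simp
      rw [this, MvPolynomial.aeval_def, ← MvPolynomial.eval₂_id, MvPolynomial.hom_eval₂]
      rfl
    rw [e1]
    apply IsUnit.mk0
    rw [Ne, Ideal.Quotient.eq_zero_iff_mem]
    exact hs)
  refine ⟨s ∘ e, ?_⟩
  rw [MvPolynomial.aeval_rename] at hs
  simpa [MvPolynomial.aeval_def, MvPolynomial.eval₂_id] using hs

section Split

variable {M : Type v} [AddCommGroup M] [Module R M]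

theorem exists_split [Module.Finite R M] [Module.Projective R M] :
    ∃ (a : ℕ) (i : M →ₗ[R] (Fin a → R)) (π : (Fin a → R) →ₗ[R] M), π ∘ₗ i = LinearMap.id := by
  obtain ⟨a, π, hπ⟩ := Module.Finite.exists_fin' R M
  obtain ⟨i, hi⟩ := Module.projective_lifting_property π LinearMap.id hπ
  exact ⟨a, i, π, hi⟩

variable {a : ℕ} (i : M →ₗ[R] (Fin a → R)) (π : (Fin a → R) →ₗ[R] M)

theorem bijective_of_isUnit_det (h : π ∘ₗ i = LinearMap.id) (θ : M →ₗ[R] M)
    (hd : IsUnit (LinearMap.toMatrix' (LinearMap.id - i ∘ₗ π + i ∘ₗ θ ∘ₗ π)).det) :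
    Function.Bijective θ := by
  set E := LinearMap.id - i ∘ₗ π + i ∘ₗ θ ∘ₗ π with hE
  have hE' : Function.Bijective E := by
    have hu : IsUnit (LinearMap.toMatrixAlgEquiv' E) := (Matrix.isUnit_iff_isUnit_det _).2 hd
    have hu' : IsUnit E := by
      have := hu.map (LinearMap.toMatrixAlgEquiv' (R := R) (n := Fin a)).symm
      rwa [AlgEquiv.symm_apply_apply] at this
    exact (Module.End.isUnit_iff _).1 hu'
  have h' : ∀ x, π (i x) = x := fun x => LinearMap.congr_fun h x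
  have e1 : ∀ x, E (i x) = i (θ x) := by intro x; simp [hE, h']
  have e2 : ∀ y, π (E y) = θ (π y) := by intro y; simp [hE, h']
  have inji : Function.Injective i := Function.LeftInverse.injective h'
  have surjπ : Function.Surjective π := Function.RightInverse.surjective h'
  constructor
  · intro x y hxy
    apply inji
    apply hE'.1
    rw [e1, e1, hxy]
  · intro x
    obtain ⟨y, hy⟩ := hE'.2 (i x)
    refine ⟨π y, ?_⟩
    rw [← e2, hy, h']

theorem det_sub_one_mem (m : Ideal R) (θ : M →ₗ[R] M)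
    (hθ : ∀ (x : M) (l : M →ₗ[R] R), l (θ x) - l x ∈ m) :
    (LinearMap.toMatrix' (LinearMap.id - i ∘ₗ π + i ∘ₗ θ ∘ₗ π)).det - 1 ∈ m := by
  rw [← Ideal.Quotient.eq_zero_iff_mem, map_sub, map_one, RingHom.map_det, sub_eq_zero]
  have : (Ideal.Quotient.mk m).mapMatrix (LinearMap.toMatrix' (LinearMap.id - i ∘ₗ π + i ∘ₗ θ ∘ₗ π)) = 1 := by
    ext r c
    have e1 := hθ (π (Pi.single c 1)) (LinearMap.proj r ∘ₗ i)
    rw [← Ideal.Quotient.eq_zero_iff_mem, map_sub, sub_eq_zero] at e1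
    simp only [LinearMap.coe_comp, Function.comp_apply, LinearMap.proj_apply] at e1
    rw [RingHom.mapMatrix_apply, Matrix.map_apply, LinearMap.toMatrix'_apply]
    simp only [LinearMap.add_apply, LinearMap.sub_apply, LinearMap.id_apply, LinearMap.coe_comp, Function.comp_apply,
      Pi.add_apply, Pi.sub_apply, map_add, map_sub, e1, sub_add_cancel]
    rw [Matrix.one_apply, Pi.single_apply]
    split_ifs <;> simp
  rw [this, Matrix.det_one]

end Split

/-- A criterion for two finite projective modules over an LG-ring to be isomorphic: for each maximal ideal `m` there are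
maps back and forth which are mutually inverse modulo `m` (after composing into the free modules). -/
theorem nonempty_linearEquiv_of_approx (hR : IsLGRing R) (M₁ : Type v) (M₂ : Type w)
    [AddCommGroup M₁] [Module R M₁] [Module.Finite R M₁] [Module.Projective R M₁]
    [AddCommGroup M₂] [Module R M₂] [Module.Finite R M₂] [Module.Projective R M₂]
    (h : ∀ m : Ideal R, m.IsMaximal → ∃ (φ : M₁ →ₗ[R] M₂) (ψ : M₂ →ₗ[R] M₁),
      (∀ (x : M₁) (l : M₁ →ₗ[R] R), l (ψ (φ x)) - l x ∈ m) ∧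
      (∀ (x : M₂) (l : M₂ →ₗ[R] R), l (φ (ψ x)) - l x ∈ m)) :
    Nonempty (M₁ ≃ₗ[R] M₂) := by
  obtain ⟨a, i₁, π₁, h₁⟩ := exists_split (R := R) (M := M₁)
  obtain ⟨b, i₂, π₂, h₂⟩ := exists_split (R := R) (M := M₂)
  -- the generic matrices
  let σ : Type := (Fin b × Fin a) ⊕ (Fin a × Fin b)
  let S := MvPolynomial σ R
  let X : Matrix (Fin b) (Fin a) S := Matrix.of fun r c => MvPolynomial.X (Sum.inl (r, c))
  let Y : Matrix (Fin a) (Fin b) S := Matrix.of fun r c => MvPolynomial.X (Sum.inr (r, c))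
  let P : Matrix (Fin a) (Fin a) R := LinearMap.toMatrix' (i₁ ∘ₗ π₁)
  let Q : Matrix (Fin b) (Fin b) R := LinearMap.toMatrix' (i₂ ∘ₗ π₂)
  let C : R →+* S := MvPolynomial.C
  let D₁ : Matrix (Fin a) (Fin a) S := 1 - P.map C + P.map C * Y * Q.map C * X * P.map C
  let D₂ : Matrix (Fin b) (Fin b) S := 1 - Q.map C + Q.map C * X * P.map C * Y * Q.map C
  have ev : ∀ s : σ → R,
      (MvPolynomial.eval s D₁.det =
        (LinearMap.toMatrix' (LinearMap.id - i₁ ∘ₗ π₁ + i₁ ∘ₗ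
          ((π₁ ∘ₗ Matrix.toLin' (Matrix.of fun r c => s (Sum.inr (r, c))) ∘ₗ i₂) ∘ₗ
            (π₂ ∘ₗ Matrix.toLin' (Matrix.of fun r c => s (Sum.inl (r, c))) ∘ₗ i₁)) ∘ₗ π₁)).det) ∧
      (MvPolynomial.eval s D₂.det =
        (LinearMap.toMatrix' (LinearMap.id - i₂ ∘ₗ π₂ + i₂ ∘ₗ
          ((π₂ ∘ₗ Matrix.toLin' (Matrix.of fun r c => s (Sum.inl (r, c))) ∘ₗ i₁) ∘ₗ
            (π₁ ∘ₗ Matrix.toLin' (Matrix.of fun r c => s (Sum.inr (r, c))) ∘ₗ i₂)) ∘ₗ π₂)).det) := by
    intro s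
    have eX : X.map (MvPolynomial.eval s) = Matrix.of fun r c => s (Sum.inl (r, c)) := by
      ext r c; exact MvPolynomial.eval_X _
    have eY : Y.map (MvPolynomial.eval s) = Matrix.of fun r c => s (Sum.inr (r, c)) := by
      ext r c; exact MvPolynomial.eval_X _
    have eP : (P.map C).map (MvPolynomial.eval s) = P := by
      ext r c; exact MvPolynomial.eval_C _
    have eQ : (Q.map C).map (MvPolynomial.eval s) = Q := by
      ext r c; exact MvPolynomial.eval_C _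
    constructor
    · rw [RingHom.map_det]
      congr 1
      simp only [D₁, RingHom.mapMatrix_apply, Matrix.map_add _ (map_add _), Matrix.map_sub _ (map_sub _),
        Matrix.map_mul, Matrix.map_one _ (map_zero _) (map_one _), eX, eY, eP, eQ]
      have ee : i₁ ∘ₗ ((π₁ ∘ₗ Matrix.toLin' (Matrix.of fun r c => s (Sum.inr (r, c))) ∘ₗ i₂) ∘ₗ
            (π₂ ∘ₗ Matrix.toLin' (Matrix.of fun r c => s (Sum.inl (r, c))) ∘ₗ i₁)) ∘ₗ π₁ =
          ((((i₁ ∘ₗ π₁) ∘ₗ Matrix.toLin' (Matrix.of fun r c => s (Sum.inr (r, c)))) ∘ₗ (i₂ ∘ₗ π₂)) ∘ₗ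
            Matrix.toLin' (Matrix.of fun r c => s (Sum.inl (r, c)))) ∘ₗ (i₁ ∘ₗ π₁) := rfl
      rw [ee]
      simp only [map_add, map_sub, LinearMap.toMatrix'_comp, LinearMap.toMatrix'_id, LinearMap.toMatrix'_toLin', P, Q]
    · rw [RingHom.map_det]
      congr 1
      simp only [D₂, RingHom.mapMatrix_apply, Matrix.map_add _ (map_add _), Matrix.map_sub _ (map_sub _),
        Matrix.map_mul, Matrix.map_one _ (map_zero _) (map_one _), eX, eY, eP, eQ]
      have ee : i₂ ∘ₗ ((π₂ ∘ₗ Matrix.toLin' (Matrix.of fun r c => s (Sum.inl (r, c))) ∘ₗ i₁) ∘ₗ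
            (π₁ ∘ₗ Matrix.toLin' (Matrix.of fun r c => s (Sum.inr (r, c))) ∘ₗ i₂)) ∘ₗ π₂ =
          ((((i₂ ∘ₗ π₂) ∘ₗ Matrix.toLin' (Matrix.of fun r c => s (Sum.inl (r, c)))) ∘ₗ (i₁ ∘ₗ π₁)) ∘ₗ
            Matrix.toLin' (Matrix.of fun r c => s (Sum.inr (r, c)))) ∘ₗ (i₂ ∘ₗ π₂) := rfl
      rw [ee]
      simp only [map_add, map_sub, LinearMap.toMatrix'_comp, LinearMap.toMatrix'_id, LinearMap.toMatrix'_toLin', P, Q]
  obtain ⟨s, hs⟩ := exists_isUnit_eval hR (D₁.det * D₂.det) (fun m hm => by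
    obtain ⟨φ, ψ, hφψ, hψφ⟩ := h m hm
    refine ⟨Sum.elim (fun rc => LinearMap.toMatrix' (i₂ ∘ₗ φ ∘ₗ π₁) rc.1 rc.2)
      (fun rc => LinearMap.toMatrix' (i₁ ∘ₗ ψ ∘ₗ π₂) rc.1 rc.2), ?_⟩
    obtain ⟨e1, e2⟩ := ev (Sum.elim (fun rc => LinearMap.toMatrix' (i₂ ∘ₗ φ ∘ₗ π₁) rc.1 rc.2)
      (fun rc => LinearMap.toMatrix' (i₁ ∘ₗ ψ ∘ₗ π₂) rc.1 rc.2))
    have m1 : (Matrix.of fun r c => (Sum.elim (fun rc : Fin b × Fin a => LinearMap.toMatrix' (i₂ ∘ₗ φ ∘ₗ π₁) rc.1 rc.2)
      (fun rc : Fin a × Fin b => LinearMap.toMatrix' (i₁ ∘ₗ ψ ∘ₗ π₂) rc.1 rc.2)) (Sum.inl (r, c))) =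
        LinearMap.toMatrix' (i₂ ∘ₗ φ ∘ₗ π₁) := rfl
    have m2 : (Matrix.of fun r c => (Sum.elim (fun rc : Fin b × Fin a => LinearMap.toMatrix' (i₂ ∘ₗ φ ∘ₗ π₁) rc.1 rc.2)
      (fun rc : Fin a × Fin b => LinearMap.toMatrix' (i₁ ∘ₗ ψ ∘ₗ π₂) rc.1 rc.2)) (Sum.inr (r, c))) =
        LinearMap.toMatrix' (i₁ ∘ₗ ψ ∘ₗ π₂) := rfl
    rw [m1, m2] at e1 e2
    rw [map_mul, e1, e2]
    simp only [Matrix.toLin'_toMatrix']
    have h₁' : ∀ x, π₁ (i₁ x) = x := fun x => LinearMap.congr_fun h₁ x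
    have h₂' : ∀ x, π₂ (i₂ x) = x := fun x => LinearMap.congr_fun h₂ x
    have d1 := det_sub_one_mem i₁ π₁ m ((π₁ ∘ₗ (i₁ ∘ₗ ψ ∘ₗ π₂) ∘ₗ i₂) ∘ₗ π₂ ∘ₗ (i₂ ∘ₗ φ ∘ₗ π₁) ∘ₗ i₁)
      (fun x l => by simpa [h₁', h₂'] using hφψ x l)
    have d2 := det_sub_one_mem i₂ π₂ m ((π₂ ∘ₗ (i₂ ∘ₗ φ ∘ₗ π₁) ∘ₗ i₁) ∘ₗ π₁ ∘ₗ (i₁ ∘ₗ ψ ∘ₗ π₂) ∘ₗ i₂)
      (fun x l => by simpa [h₁', h₂'] using hψφ x l)
    intro hmem
    apply hm.ne_top
    rw [Ideal.eq_top_iff_one]
    have : ∀ x y : R, x - 1 ∈ m → y - 1 ∈ m → x * y ∈ m → (1 : R) ∈ m := by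
      intro x y hx hy hxy
      have e : (1 : R) = x * y - (x - 1) * y - (y - 1) := by ring
      rw [e]
      exact m.sub_mem (m.sub_mem hxy (m.mul_mem_right _ hx)) hy
    exact this _ _ d1 d2 hmem)
  rw [map_mul, (ev s).1, (ev s).2] at hs
  have b1 := bijective_of_isUnit_det i₁ π₁ h₁ _ (isUnit_of_mul_isUnit_left hs)
  have b2 := bijective_of_isUnit_det i₂ π₂ h₂ _ (isUnit_of_mul_isUnit_right hs)
  refine ⟨LinearEquiv.ofBijective (π₂ ∘ₗ Matrix.toLin' (Matrix.of fun r c => s (Sum.inl (r, c))) ∘ₗ i₁)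
    ⟨?_, ?_⟩⟩
  · rw [LinearMap.coe_comp] at b1
    exact Function.Injective.of_comp b1.1
  · rw [LinearMap.coe_comp] at b2
    exact Function.Surjective.of_comp b2.2

section Fibre

variable {k : Type w} [Field k] [Algebra R k]

/-- If `R → k` is surjective then so is `M → k ⊗ M`. -/
theorem mk_one_surjective (hk : Function.Surjective (algebraMap R k)) (M : Type v) [AddCommGroup M] [Module R M] :
    Function.Surjective (TensorProduct.mk R k M 1) := by
  intro t
  induction t using TensorProduct.induction_on with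
  | zero => exact ⟨0, map_zero _⟩
  | add x y hx hy =>
    obtain ⟨x', rfl⟩ := hx
    obtain ⟨y', rfl⟩ := hy
    exact ⟨x' + y', map_add _ _ _⟩
  | tmul c x =>
    obtain ⟨r, rfl⟩ := hk c
    refine ⟨r • x, ?_⟩
    rw [TensorProduct.mk_apply, TensorProduct.tmul_smul, TensorProduct.smul_tmul', Algebra.algebraMap_eq_smul_one]

/-- A linear form takes a vector dying in `k ⊗ M` into the kernel of `R → k`. -/
theorem algebraMap_apply_eq_zero {M : Type v} [AddCommGroup M] [Module R M] (x : M)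
    (hx : (1 : k) ⊗ₜ[R] x = 0) (l : M →ₗ[R] R) : algebraMap R k (l x) = 0 := by
  have h := congrArg (fun t => TensorProduct.rid R k (l.lTensor k t)) hx
  simpa [Algebra.algebraMap_eq_smul_one] using h

end Fibre

theorem exists_approx (M₁ : Type v) (M₂ : Type w)
    [AddCommGroup M₁] [Module R M₁] [Module.Finite R M₁] [Module.Projective R M₁]
    [AddCommGroup M₂] [Module R M₂] [Module.Finite R M₂] [Module.Projective R M₂]
    (m : Ideal R) (hm : m.IsMaximal)
    (h : Module.rankAtStalk M₁ ⟨m, hm.isPrime⟩ = Module.rankAtStalk M₂ ⟨m, hm.isPrime⟩) :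
    ∃ (φ : M₁ →ₗ[R] M₂) (ψ : M₂ →ₗ[R] M₁),
      (∀ (x : M₁) (l : M₁ →ₗ[R] R), l (ψ (φ x)) - l x ∈ m) ∧
      (∀ (x : M₂) (l : M₂ →ₗ[R] R), l (φ (ψ x)) - l x ∈ m) := by
  have hp : m.IsPrime := hm.isPrime
  rw [Module.rankAtStalk_eq, Module.rankAtStalk_eq] at h
  let k := m.ResidueField
  have hk : Function.Surjective (algebraMap R k) := by
    have := m.bijective_algebraMap_quotient_residueField.surjective.comp (Ideal.Quotient.mk_surjective (I := m))
    exact this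
  have hker : ∀ r : R, algebraMap R k r = 0 → r ∈ m := by
    intro r hr
    rwa [Ideal.algebraMap_residueField_eq_zero] at hr
  let e : (k ⊗[R] M₁) ≃ₗ[k] (k ⊗[R] M₂) := LinearEquiv.ofFinrankEq _ _ h
  obtain ⟨φ, hφ⟩ := Module.projective_lifting_property (TensorProduct.mk R k M₂ 1)
    ((e.toLinearMap.restrictScalars R) ∘ₗ (TensorProduct.mk R k M₁ 1)) (mk_one_surjective hk M₂)
  obtain ⟨ψ, hψ⟩ := Module.projective_lifting_property (TensorProduct.mk R k M₁ 1)
    ((e.symm.toLinearMap.restrictScalars R) ∘ₗ (TensorProduct.mk R k M₂ 1)) (mk_one_surjective hk M₁)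
  have hφ' : ∀ x, (1 : k) ⊗ₜ[R] (φ x) = e ((1 : k) ⊗ₜ[R] x) := fun x => LinearMap.congr_fun hφ x
  have hψ' : ∀ x, (1 : k) ⊗ₜ[R] (ψ x) = e.symm ((1 : k) ⊗ₜ[R] x) := fun x => LinearMap.congr_fun hψ x
  refine ⟨φ, ψ, fun x l => ?_, fun x l => ?_⟩
  · apply hker
    rw [← map_sub]
    apply algebraMap_apply_eq_zero
    rw [TensorProduct.tmul_sub, hψ', hφ', LinearEquiv.symm_apply_apply, sub_self]
  · apply hker
    rw [← map_sub]
    apply algebraMap_apply_eq_zero
    rw [TensorProduct.tmul_sub, hφ', hψ', LinearEquiv.apply_symm_apply, sub_self]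

/-- Over an LG-ring, finite projective modules with equal ranks at the maximal ideals are isomorphic. -/
theorem nonempty_linearEquiv_of_rankAtStalk_eq (hR : IsLGRing R) (M₁ : Type v) (M₂ : Type w)
    [AddCommGroup M₁] [Module R M₁] [Module.Finite R M₁] [Module.Projective R M₁]
    [AddCommGroup M₂] [Module R M₂] [Module.Finite R M₂] [Module.Projective R M₂]
    (h : ∀ (m : Ideal R) (hm : m.IsMaximal), Module.rankAtStalk M₁ ⟨m, hm.isPrime⟩ = Module.rankAtStalk M₂ ⟨m, hm.isPrime⟩) :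
    Nonempty (M₁ ≃ₗ[R] M₂) :=
  nonempty_linearEquiv_of_approx hR M₁ M₂ fun m hm => exists_approx M₁ M₂ m hm (h m hm)

/-- Over an LG-ring, a finite projective module with positive rank at every maximal ideal has a unimodular element. -/
theorem exists_unimodular_of_rankAtStalk_pos (hR : IsLGRing R) (M : Type v)
    [AddCommGroup M] [Module R M] [Module.Finite R M] [Module.Projective R M]
    (h : ∀ (m : Ideal R), m.IsMaximal → ∃ (x : M) (l : M →ₗ[R] R), l x ∉ m) :
    ∃ (x : M) (f : Module.Dual R M), f x = 1 := by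
  obtain ⟨a, i, π, hiπ⟩ := exists_split (R := R) (M := M)
  have h' : ∀ x, π (i x) = x := fun x => LinearMap.congr_fun hiπ x
  let P : Matrix (Fin a) (Fin a) R := LinearMap.toMatrix' (i ∘ₗ π)
  let f : MvPolynomial (Fin a ⊕ Fin a) R :=
    ∑ r : Fin a, ∑ c : Fin a, MvPolynomial.X (Sum.inl r) * MvPolynomial.C (P r c) * MvPolynomial.X (Sum.inr c)
  have ev : ∀ s : Fin a ⊕ Fin a → R, MvPolynomial.eval s f =
      ∑ r : Fin a, s (Sum.inl r) * (i (π (fun c => s (Sum.inr c)))) r := by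
    intro s
    simp only [f, map_sum, map_mul, MvPolynomial.eval_X, MvPolynomial.eval_C]
    refine Finset.sum_congr rfl fun r _ => ?_
    have : (i (π (fun c => s (Sum.inr c)))) = P.mulVec (fun c => s (Sum.inr c)) := by
      rw [← Matrix.toLin'_apply, Matrix.toLin'_toMatrix']; rfl
    rw [this, Matrix.mulVec, dotProduct, Finset.mul_sum]
    exact Finset.sum_congr rfl fun c _ => by ring
  obtain ⟨s, hs⟩ := exists_isUnit_eval hR f (fun m hm => by
    obtain ⟨x, l, hx⟩ := h m hm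
    refine ⟨Sum.elim (fun r => l (π (Pi.single r 1))) (i x), ?_⟩
    rw [ev]
    have e1 : ∑ r : Fin a, l (π (Pi.single r 1)) * (i (π (i x))) r = l x := by
      rw [h']
      conv_rhs => rw [← h' x, ← LinearMap.comp_apply, LinearMap.pi_apply_eq_sum_univ (l ∘ₗ π) (i x)]
      refine Finset.sum_congr rfl fun r _ => ?_
      rw [smul_eq_mul, mul_comm, LinearMap.comp_apply]
      have e3 : (Pi.single r 1 : Fin a → R) = fun j => if r = j then 1 else 0 := by
        funext j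
        rw [Pi.single_apply]
        simp only [eq_comm]
      rw [e3]
    have e2 : (fun c => (Sum.elim (fun r => l (π (Pi.single r 1))) (i x) : Fin a ⊕ Fin a → R) (Sum.inr c)) = i x := rfl
    rw [e2]
    simpa only [Sum.elim_inl, e1] using hx)
  rw [ev] at hs
  obtain ⟨u, hu⟩ := hs
  refine ⟨π (fun c => s (Sum.inr c)), (↑u⁻¹ : R) • ((∑ r : Fin a, s (Sum.inl r) • LinearMap.proj r) ∘ₗ i), ?_⟩
  simp only [LinearMap.smul_apply, LinearMap.comp_apply, LinearMap.sum_apply, LinearMap.proj_apply, smul_eq_mul, ← hu,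
    Units.inv_mul]

end K888.LG
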