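import Groth.Agent.LGRing.K888.Basic
import Mathlib.AlgebraicGeometry.AffineScheme
import Mathlib.LinearAlgebra.SymmetricAlgebra.Basic
import Mathlib.Algebra.MvPolynomial.Funext

set_option autoImplicit false

/-!
# LG-rings: points of quasi-compact opens of affine space and of vector bundles
-/

namespace K888.LG

open LGRing AlgebraicGeometry

universe u v w

variable {R : Type u} [CommRing R]

/-- The image of `Spec T → Spec S` lies in the open `D(t)` iff the image of `t` generates the unit ideal. -/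
theorem range_subset_iff {S T : Type u} [CommRing S] [CommRing T] (U : Set ↥(Spec (CommRingCat.of S)))
    (t : Finset S) (ht : (PrimeSpectrum.zeroLocus (t : Set S))ᶜ = U) (ψ : S →+* T) :
    Set.range (Spec.map (CommRingCat.ofHom ψ)).base ⊆ U ↔ Ideal.map ψ (Ideal.span (t : Set S)) = ⊤ := by
  subst ht
  constructor
  · intro h
    by_contra hcon
    obtain ⟨q, hq, hle⟩ := Ideal.exists_le_maximal _ hcon
    have h1 : (Spec.map (CommRingCat.ofHom ψ)).base (⟨q, hq.isPrime⟩ : PrimeSpectrum T) ∈
      (PrimeSpectrum.zeroLocus (t : Set S))ᶜ := h ⟨_, rfl⟩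
    apply h1
    intro f hf
    change f ∈ Ideal.comap ψ q
    rw [Ideal.mem_comap]
    exact hle (Ideal.mem_map_of_mem ψ (Ideal.subset_span hf))
  · rintro h _ ⟨q, rfl⟩ hmem
    have h2 : Ideal.map ψ (Ideal.span (t : Set S)) ≤ (q : PrimeSpectrum T).asIdeal := by
      rw [Ideal.map_span, Ideal.span_le]
      rintro _ ⟨f, hf, rfl⟩
      exact hmem hf
    exact (q : PrimeSpectrum T).isPrime.ne_top (top_le_iff.mp (h ▸ h2))

theorem map_span_eq_top_iff_field {S : Type u} {T : Type v} [CommRing S] [Field T] (t : Finset S) (ψ : S →+* T) :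
    Ideal.map ψ (Ideal.span (t : Set S)) = ⊤ ↔ ∃ f ∈ t, ψ f ≠ 0 := by
  constructor
  · intro h
    by_contra hcon
    push Not at hcon
    have : Ideal.map ψ (Ideal.span (t : Set S)) ≤ ⊥ := by
      rw [Ideal.map_span, Ideal.span_le]
      rintro _ ⟨f, hf, rfl⟩
      exact hcon f hf
    rw [h] at this
    exact bot_ne_top (top_le_iff.mp this)
  · rintro ⟨f, hf, hne⟩
    exact Ideal.eq_top_of_isUnit_mem _ (Ideal.mem_map_of_mem ψ (Ideal.subset_span hf)) (IsUnit.mk0 _ hne)

/-- The points form of the LG property for quasi-compact opens of affine space. -/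
theorem exists_point (hR : IsLGRing R) {n : ℕ} (t : Finset (MvPolynomial (Fin n) R))
    (h : ∀ m : Ideal R, m.IsMaximal → ∃ (x : Fin n → R), ∃ f ∈ t, MvPolynomial.eval x f ∉ m) :
    ∃ x : Fin n → R, Ideal.map (MvPolynomial.eval x) (Ideal.span (t : Set (MvPolynomial (Fin n) R))) = ⊤ := by
  classical
  let e := t.equivFin
  let F : MvPolynomial (Fin n ⊕ Fin t.card) R :=
    ∑ j : Fin t.card, MvPolynomial.X (Sum.inr j) * MvPolynomial.rename Sum.inl (e.symm j : MvPolynomial (Fin n) R)
  have ev : ∀ s : Fin n ⊕ Fin t.card → R, MvPolynomial.eval s F =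
      ∑ j : Fin t.card, s (Sum.inr j) * MvPolynomial.eval (s ∘ Sum.inl) (e.symm j : MvPolynomial (Fin n) R) := by
    intro s
    simp only [F, map_sum, map_mul, MvPolynomial.eval_X, MvPolynomial.eval_rename]
  obtain ⟨s, hs⟩ := exists_isUnit_eval hR F (fun m hm => by
    obtain ⟨x, f, hf, hx⟩ := h m hm
    refine ⟨Sum.elim x (Pi.single (e ⟨f, hf⟩) 1), ?_⟩
    rw [ev, Finset.sum_eq_single (e ⟨f, hf⟩)]
    · simpa using hx
    · intro j _ hj
      simp [Pi.single_eq_of_ne hj]
    · intro hcon
      exact absurd (Finset.mem_univ _) hcon)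
  refine ⟨s ∘ Sum.inl, ?_⟩
  rw [ev] at hs
  refine Ideal.eq_top_of_isUnit_mem _ ?_ hs
  refine Ideal.sum_mem _ fun j _ => Ideal.mul_mem_left _ _ ?_
  exact Ideal.mem_map_of_mem _ (Ideal.subset_span (e.symm j).2)

section Bundle

variable {M : Type u} [AddCommGroup M] [Module R M] {n : ℕ} (i : M →ₗ[R] (Fin n → R)) (π : (Fin n → R) →ₗ[R] M)

/-- `Sym(M) → R[X]` induced by `M → R^n`. -/
noncomputable def toPoly : SymmetricAlgebra R M →ₐ[R] MvPolynomial (Fin n) R :=
  SymmetricAlgebra.lift (∑ j : Fin n, (LinearMap.toSpanSingleton R (MvPolynomial (Fin n) R) (MvPolynomial.X j)) ∘ₗ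
    (LinearMap.proj j ∘ₗ i))

/-- The retraction `R[X] → Sym(M)` induced by `R^n → M`. -/
noncomputable def ofPoly : MvPolynomial (Fin n) R →ₐ[R] SymmetricAlgebra R M :=
  MvPolynomial.aeval fun j => SymmetricAlgebra.ι R M (π (Pi.single j 1))

theorem toPoly_ι (x : M) : toPoly i (SymmetricAlgebra.ι R M x) = ∑ j : Fin n, i x j • MvPolynomial.X j := by
  rw [toPoly, SymmetricAlgebra.lift_ι_apply]
  simp

theorem sum_single (y : Fin n → R) : ∑ j : Fin n, y j • (Pi.single j 1 : Fin n → R) = y := by
  funext r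
  simp [Finset.sum_apply, Pi.single_apply]

theorem ofPoly_toPoly (h : π ∘ₗ i = LinearMap.id) (f : SymmetricAlgebra R M) : ofPoly π (toPoly i f) = f := by
  have h' : ∀ x, π (i x) = x := fun x => LinearMap.congr_fun h x
  have : (ofPoly π).comp (toPoly i) = AlgHom.id R _ := by
    apply SymmetricAlgebra.algHom_ext
    refine LinearMap.ext fun x => ?_
    change ofPoly π (toPoly i (SymmetricAlgebra.ι R M x)) = SymmetricAlgebra.ι R M x
    simp only [toPoly_ι, map_sum, map_smul]
    have : ∀ j : Fin n, ofPoly π (MvPolynomial.X j) = SymmetricAlgebra.ι R M (π (Pi.single j 1)) := fun j => by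
      rw [ofPoly, MvPolynomial.aeval_X]
    simp only [this, ← map_smul, ← map_sum, sum_single, h']
  exact AlgHom.congr_fun this f

/-- Values at the point of the bundle defined by a point `x` of affine space. -/
theorem lift_eq_aeval {A : Type v} [CommRing A] [Algebra R A] (x : Fin n → A) (φ : M →ₗ[R] A)
    (hφ : ∀ y, φ y = ∑ j : Fin n, i y j • x j) (f : SymmetricAlgebra R M) :
    SymmetricAlgebra.lift φ f = MvPolynomial.aeval x (toPoly i f) := by
  have : SymmetricAlgebra.lift φ = (MvPolynomial.aeval x : MvPolynomial (Fin n) R →ₐ[R] A).comp (toPoly i) := by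
    apply SymmetricAlgebra.algHom_ext
    refine LinearMap.ext fun y => ?_
    change SymmetricAlgebra.lift φ (SymmetricAlgebra.ι R M y) =
      MvPolynomial.aeval x (toPoly i (SymmetricAlgebra.ι R M y))
    simp only [toPoly_ι, map_sum, map_smul, SymmetricAlgebra.lift_ι_apply, MvPolynomial.aeval_X, hφ]
  rw [this]; rfl

/-- The linear map attached to a tuple. -/
noncomputable def linOf {A : Type v} [CommRing A] [Algebra R A] (x : Fin n → A) : M →ₗ[R] A :=
  ∑ j : Fin n, (LinearMap.toSpanSingleton R A (x j)) ∘ₗ (LinearMap.proj j ∘ₗ i)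

theorem linOf_apply {A : Type v} [CommRing A] [Algebra R A] (x : Fin n → A) (y : M) :
    linOf i x y = ∑ j : Fin n, i y j • x j := by
  simp [linOf]

end Bundle

/-- Points of quasi-compact opens of a vector bundle over an LG-ring, given points over the residue fields
(with values obtained through any tuple). -/
theorem exists_bundle_point (hR : IsLGRing R) (M : Type u) [AddCommGroup M] [Module R M] [Module.Finite R M]
    [Module.Projective R M] (t : Finset (SymmetricAlgebra R M))
    (h : ∀ m : Ideal R, m.IsMaximal → ∃ (φ : M →ₗ[R] (R ⧸ m)), ∃ f ∈ t, SymmetricAlgebra.lift φ f ≠ 0) :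
    ∃ φ : M →ₗ[R] R, Ideal.map (SymmetricAlgebra.lift φ).toRingHom
      (Ideal.span (t : Set (SymmetricAlgebra R M))) = ⊤ := by
  classical
  obtain ⟨n, i, π, hiπ⟩ := exists_split (R := R) (M := M)
  have h' : ∀ x, π (i x) = x := fun x => LinearMap.congr_fun hiπ x
  obtain ⟨x, hx⟩ := exists_point hR (t.image (toPoly i)) (fun m hm => by
    obtain ⟨φ, f, hf, hne⟩ := h m hm
    have hsurj : ∀ j : Fin n, ∃ r : R, Ideal.Quotient.mk m r = φ (π (Pi.single j 1)) :=
      fun j => Ideal.Quotient.mk_surjective _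
    choose x hx using hsurj
    refine ⟨x, toPoly i f, Finset.mem_image_of_mem _ hf, ?_⟩
    intro hmem
    apply hne
    rw [lift_eq_aeval i (fun j => Ideal.Quotient.mk m (x j)) φ]
    · rw [← Ideal.Quotient.eq_zero_iff_mem] at hmem
      rw [← hmem, MvPolynomial.aeval_def, ← MvPolynomial.eval₂_id, MvPolynomial.hom_eval₂]
      rfl
    · intro y
      simp only [hx, ← map_smul, ← map_sum]
      rw [sum_single, h'])
  refine ⟨linOf i x, ?_⟩
  rw [← top_le_iff, ← hx, Ideal.map_span, Ideal.span_le]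
  rintro _ ⟨g, hg, rfl⟩
  rw [Finset.mem_coe, Finset.mem_image] at hg
  obtain ⟨f, hf, rfl⟩ := hg
  have : MvPolynomial.eval x (toPoly i f) = (SymmetricAlgebra.lift (linOf i x)).toRingHom f := by
    change _ = SymmetricAlgebra.lift (linOf i x) f
    rw [lift_eq_aeval i x (linOf i x) (linOf_apply i x) f]
    rfl
  rw [SetLike.mem_coe, this]
  exact Ideal.mem_map_of_mem _ (Ideal.subset_span hf)

/-- Over an infinite residue field, a function on the bundle not in `m Sym(M)` is nonzero at a point. -/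
theorem exists_lift_ne_zero (M : Type u) [AddCommGroup M] [Module R M] [Module.Finite R M]
    [Module.Projective R M] (m : Ideal R) (hm : m.IsMaximal) (hinf : Infinite (R ⧸ m)) (f : SymmetricAlgebra R M)
    (hf : f ∉ Ideal.map (algebraMap R (SymmetricAlgebra R M)) m) :
    ∃ (φ : M →ₗ[R] (R ⧸ m)), SymmetricAlgebra.lift φ f ≠ 0 := by
  obtain ⟨n, i, π, hiπ⟩ := exists_split (R := R) (M := M)
  have hfield : IsField (R ⧸ m) := (Ideal.Quotient.maximal_ideal_iff_isField_quotient m).mp hm
  have hdom : IsDomain (R ⧸ m) := Ideal.Quotient.isDomain m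
  have hne : MvPolynomial.map (Ideal.Quotient.mk m) (toPoly i f) ≠ 0 := by
    intro h0
    apply hf
    rw [← ofPoly_toPoly i π hiπ f]
    have h1 : toPoly i f ∈ Ideal.map (MvPolynomial.C : R →+* MvPolynomial (Fin n) R) m := by
      rw [MvPolynomial.mem_map_C_iff]
      intro d
      rw [← Ideal.Quotient.eq_zero_iff_mem, ← MvPolynomial.coeff_map, h0, MvPolynomial.coeff_zero]
    have h2 := Ideal.mem_map_of_mem (ofPoly π).toRingHom h1
    rw [Ideal.map_map] at h2
    have h3 : (ofPoly π).toRingHom.comp (MvPolynomial.C : R →+* MvPolynomial (Fin n) R) =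
        algebraMap R (SymmetricAlgebra R M) := by
      ext r
      exact (ofPoly π).commutes r
    rw [h3] at h2
    exact h2
  obtain ⟨x, hx⟩ : ∃ x : Fin n → (R ⧸ m), MvPolynomial.eval x (MvPolynomial.map (Ideal.Quotient.mk m) (toPoly i f)) ≠ 0 := by
    by_contra hcon
    push Not at hcon
    apply hne
    apply MvPolynomial.funext
    intro x
    rw [hcon x, map_zero]
  refine ⟨linOf i x, ?_⟩
  rw [lift_eq_aeval i x (linOf i x) (linOf_apply i x) f]
  rw [MvPolynomial.eval_map] at hx
  exact hx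

end K888.LG
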